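import Groth.Agent.RedSpecial.DVR
import Mathlib.AlgebraicGeometry.Morphisms.UniversallyOpen

/-!
# Connectedness of the generic fibre when the special fibre is reduced
-/

set_option autoImplicit false
universe u

open CategoryTheory CategoryTheory.Limits AlgebraicGeometry TensorProduct

namespace Groth.Agent.RedSpecial

/-- Idempotents lift across inverting a uniformiser when the special fibre is reduced. -/
theorem exists_idempotent_of_clopen {R B : Type u} [CommRing R] [IsDomain R] [IsDiscreteValuationRing R]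
    [CommRing B] [Algebra R B] [Module.Flat R B]
    (h : _root_.IsReduced ((IsLocalRing.maximalIdeal R).Fiber B)) {π : R} (hπ : Irreducible π)
    (s : Set (PrimeSpectrum B)) (hso : IsOpen s)
    (hsd : IsOpen (↑(PrimeSpectrum.basicOpen (algebraMap R B π)) \ s))
    (hss : s ⊆ PrimeSpectrum.basicOpen (algebraMap R B π)) :
    ∃ b : B, IsIdempotentElem b ∧
      (↑(PrimeSpectrum.basicOpen b) ∩ ↑(PrimeSpectrum.basicOpen (algebraMap R B π)) :
        Set (PrimeSpectrum B)) = s := by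
  classical
  have : Module.IsTorsionFree R B := by
    rw [Submodule.isTorsionFree_iff_torsion_eq_bot]; exact Module.Flat.torsion_eq_bot
  have hπ0 : π ≠ 0 := hπ.ne_zero
  set p := algebraMap R B π with hp
  let m := IsLocalRing.maximalIdeal R
  have hspan : m.map (algebraMap R B) = Ideal.span {p} := by
    rw [show m = Ideal.span {π} from hπ.maximalIdeal_eq, Ideal.map_span, Set.image_singleton]
  have hred : _root_.IsReduced (B ⧸ m.map (algebraMap R B)) := by
    let ek : (R ⧸ m) ≃ₐ[R] m.ResidueField :=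
      AlgEquiv.ofBijective (IsScalarTower.toAlgHom R (R ⧸ m) m.ResidueField)
        m.bijective_algebraMap_quotient_residueField
    let e : (B ⧸ m.map (algebraMap R B)) ≃+* m.Fiber B :=
      (Algebra.TensorProduct.quotIdealMapEquivTensorQuot B m).toRingEquiv.trans
        ((Algebra.TensorProduct.comm R B (R ⧸ m)).trans
          (Algebra.TensorProduct.congr ek (AlgEquiv.refl : B ≃ₐ[R] B))).toRingEquiv
    exact isReduced_of_injective e e.injective
  have hcancel : ∀ (k : ℕ) (b : B), p ^ k * b = 0 → b = 0 := fun k b hb => by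
    rw [hp, ← map_pow, ← Algebra.smul_def] at hb
    exact (smul_eq_zero_iff_right (pow_ne_zero k hπ0)).mp hb
  let L := Localization.Away p
  have hinj : Function.Injective (algebraMap B L) := fun a b hab => by
    obtain ⟨⟨_, k, rfl⟩, hk⟩ := (IsLocalization.eq_iff_exists (Submonoid.powers p) L).mp hab
    exact sub_eq_zero.mp (hcancel k _ (by rw [mul_sub]; exact sub_eq_zero.mpr hk))
  have hrange := PrimeSpectrum.localization_away_comap_range L p
  have hclopen : IsClopen (PrimeSpectrum.comap (algebraMap B L) ⁻¹' s) := by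
    refine ⟨⟨?_⟩, hso.preimage (PrimeSpectrum.continuous_comap _)⟩
    convert hsd.preimage (PrimeSpectrum.continuous_comap (algebraMap B L)) using 1
    ext z
    simp only [Set.mem_compl_iff, Set.mem_preimage, Set.mem_diff]
    exact ⟨fun h => ⟨hrange.subset ⟨z, rfl⟩, h⟩, fun h => h.2⟩
  obtain ⟨e, he, hes⟩ := PrimeSpectrum.exists_idempotent_basicOpen_eq_of_isClopen hclopen
  have hex : ∃ k, ∃ a, algebraMap B L a = algebraMap B L p ^ k * e := by
    obtain ⟨⟨a, ⟨_, k, rfl⟩⟩, ha⟩ := IsLocalization.surj (Submonoid.powers p) e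
    exact ⟨k, a, by rw [← map_pow, mul_comm]; exact ha.symm⟩
  obtain ⟨a, ha⟩ := Nat.find_spec hex
  have hk : Nat.find hex = 0 := by
    by_contra h0
    obtain ⟨k, hk⟩ := Nat.exists_eq_succ_of_ne_zero h0
    rw [hk] at ha
    have hsq : a * a = p ^ (k + 1) * a := hinj (by
      rw [map_mul, map_mul, map_pow, ha, mul_mul_mul_comm, he.eq, mul_assoc])
    have hmem : a ∈ Ideal.span {p} := by
      rw [← hspan, ← Ideal.Quotient.eq_zero_iff_mem]
      refine IsReduced.eq_zero _ ⟨2, ?_⟩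
      rw [← map_pow, Ideal.Quotient.eq_zero_iff_mem, hspan, sq, hsq, pow_succ', mul_assoc]
      exact Ideal.mul_mem_right _ _ (Ideal.mem_span_singleton_self p)
    obtain ⟨c, rfl⟩ := Ideal.mem_span_singleton'.mp hmem
    have hc : algebraMap B L c = algebraMap B L p ^ k * e := by
      refine (IsLocalization.Away.algebraMap_isUnit (S := L) p).mul_left_cancel ?_
      rw [← mul_assoc, ← pow_succ', ← ha, map_mul, mul_comm]
    exact absurd (Nat.find_min' hex ⟨c, hc⟩) (by omega)
  rw [hk, pow_zero, one_mul] at ha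
  refine ⟨a, hinj (by rw [map_mul, ha]; exact he.eq), ?_⟩
  have hpre : PrimeSpectrum.comap (algebraMap B L) ⁻¹' ↑(PrimeSpectrum.basicOpen a) =
      PrimeSpectrum.comap (algebraMap B L) ⁻¹' s := by
    rw [hes, ← ha]; rfl
  ext z
  constructor
  · rintro ⟨h1, h2⟩
    obtain ⟨w, rfl⟩ := hrange.ge h2
    exact hpre.subset h1
  · intro hz
    obtain ⟨w, rfl⟩ := hrange.ge (hss hz)
    exact ⟨hpre.ge hz, hss hz⟩

theorem connectedSpace_generic_fibre {R : Type u} [CommRing R] [IsDomain R] [IsDiscreteValuationRing R]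
    {X : Scheme.{u}} (f : X ⟶ Spec (CommRingCat.of R)) [Flat f] [ConnectedSpace X]
    (hred : IsReduced (f.fiber (IsLocalRing.closedPoint R))) :
    ConnectedSpace ↥(f.fiber (⟨⊥, Ideal.isPrime_bot⟩ : PrimeSpectrum R)) := by
  obtain ⟨π, hπ⟩ := IsDiscreteValuationRing.exists_irreducible R
  let η : PrimeSpectrum R := ⟨⊥, Ideal.isPrime_bot⟩
  have hgen : ∀ x : X, ∃ y : X, f y = η ∧ y ⤳ x := fun x => by
    obtain ⟨y, hy, hfy⟩ := Flat.generalizingMap f
      (show (η : Spec (CommRingCat.of R)) ⤳ f x from (PrimeSpectrum.le_iff_specializes η (f x)).mp bot_le)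
    exact ⟨y, hfy, hy⟩
  have hηD : ∀ y : X, f y = η ↔ π ∉ (f y).asIdeal := by
    intro y
    constructor
    · rintro h
      rw [h]
      exact fun hm => hπ.ne_zero ((Submodule.mem_bot R).mp hm)
    · intro h
      refine PrimeSpectrum.ext (by_contra fun hne => h ?_)
      have := IsLocalRing.eq_maximalIdeal ((f y).isPrime.isMaximal hne)
      rw [this, hπ.maximalIdeal_eq]
      exact Ideal.mem_span_singleton_self π
  let T : Set X := f ⁻¹' {η}
  suffices hT : _root_.IsConnected T by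
    have : ConnectedSpace ↥T := isConnected_iff_connectedSpace.mp hT
    exact (f.fiberHomeo η).symm.surjective.connectedSpace (f.fiberHomeo η).symm.continuous
  have hTD : T = {y : X | π ∉ (f y).asIdeal} := Set.ext hηD
  have hTo : IsOpen T := by
    rw [hTD]
    exact (PrimeSpectrum.basicOpen π).2.preimage f.continuous
  obtain ⟨x₀⟩ : Nonempty X := inferInstance
  obtain ⟨y₀, hy₀, -⟩ := hgen x₀
  refine ⟨⟨y₀, hy₀⟩, fun u v hu hv hcov ⟨yu, hyu⟩ ⟨yv, hyv⟩ => ?_⟩
  by_contra hem
  rw [Set.not_nonempty_iff_eq_empty] at hem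
  let G : Set X → Set X := fun w => {x | ∃ N : Set X, IsOpen N ∧ x ∈ N ∧ N ∩ T ⊆ w}
  have hGo : ∀ w, IsOpen (G w) := fun w => isOpen_iff_forall_mem_open.mpr fun x ⟨N, hN, hxN, hw⟩ =>
    ⟨N, fun y hy => ⟨N, hN, hy, hw⟩, hN, hxN⟩
  have hdisj : G u ∩ G v = ∅ := by
    refine Set.eq_empty_iff_forall_notMem.mpr fun x ⟨⟨N, hN, hxN, hNu⟩, N', hN', hxN', hNv⟩ => ?_
    obtain ⟨y, hy, hyx⟩ := hgen x
    exact Set.eq_empty_iff_forall_notMem.mp hem y
      ⟨hy, hNu ⟨hyx.mem_open hN hxN, hy⟩, hNv ⟨hyx.mem_open hN' hxN', hy⟩⟩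
  have hGcov : Set.univ ⊆ G u ∪ G v := by
    intro x _
    obtain ⟨_, ⟨V, hV, rfl⟩, hxV, -⟩ :=
      X.isBasis_affineOpens.exists_subset_of_mem_open (Set.mem_univ x) isOpen_univ
    obtain ⟨φ, hφ⟩ := Spec.map_surjective (hV.fromSpec ≫ f)
    algebraize [φ.hom]
    have : Module.Flat R Γ(X, V) := by
      have h : Flat (Spec.map φ) := hφ.symm ▸ (inferInstance : Flat (hV.fromSpec ≫ f))
      exact (HasRingHomProperty.Spec_iff (P := @Flat)).mp h
    let g : Spec Γ(X, V) ⟶ Spec (CommRingCat.of R) :=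
      Spec.map (CommRingCat.ofHom (algebraMap R Γ(X, V)))
    have hg : g = hV.fromSpec ≫ f := hφ
    let γ : PrimeSpectrum R := IsLocalRing.closedPoint R
    let F : g.fiber γ ⟶ f.fiber γ :=
      pullback.map g ((Spec (CommRingCat.of R)).fromSpecResidueField γ) f
        ((Spec (CommRingCat.of R)).fromSpecResidueField γ) hV.fromSpec (𝟙 _) (𝟙 _)
        (by rw [Category.comp_id, hg]) (by rw [Category.comp_id, Category.id_comp])
    have : IsOpenImmersion F := inferInstanceAs (IsOpenImmersion (pullback.map ..))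
    have : IsReduced (g.fiber γ) := isReduced_of_isOpenImmersion F
    let e : g.fiber γ ≅ Spec (CommRingCat.of (γ.asIdeal.Fiber Γ(X, V))) :=
      Arrow.leftFunc.mapIso (Spec.fiberToSpecResidueFieldIso R Γ(X, V) γ)
    have hFr : IsReduced (Spec (CommRingCat.of (γ.asIdeal.Fiber Γ(X, V)))) :=
      isReduced_of_isOpenImmersion e.inv
    have hfib : _root_.IsReduced ((IsLocalRing.maximalIdeal R).Fiber Γ(X, V)) :=
      (affine_isReduced_iff _).mp hFr
    let j : PrimeSpectrum Γ(X, V) → X := fun z => hV.fromSpec z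
    have hD : (↑(PrimeSpectrum.basicOpen (algebraMap R Γ(X, V) π)) : Set (PrimeSpectrum Γ(X, V))) =
        j ⁻¹' T := by
      ext z
      show algebraMap R Γ(X, V) π ∉ z.asIdeal ↔ f (j z) = η
      rw [hηD, ← Scheme.Hom.comp_apply, ← hg]
      rfl
    have hjo : IsOpenMap j := hV.fromSpec.isOpenEmbedding.isOpenMap
    have hjc : Continuous j := hV.fromSpec.continuous
    have hsplit : j ⁻¹' T \ j ⁻¹' (u ∩ T) = j ⁻¹' (v ∩ T) := by
      ext z
      constructor
      · rintro ⟨h1, h2⟩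
        exact ⟨(hcov h1).resolve_left fun h => h2 ⟨h, h1⟩, h1⟩
      · rintro ⟨h1, h2⟩
        exact ⟨h2, fun h => Set.eq_empty_iff_forall_notMem.mp hem (j z) ⟨h2, h.1, h1⟩⟩
    obtain ⟨b, hb, hbs⟩ := exists_idempotent_of_clopen hfib hπ (j ⁻¹' (u ∩ T))
      ((hu.inter hTo).preimage hjc) (by rw [hD, hsplit]; exact (hv.inter hTo).preimage hjc)
      (by rw [hD]; exact fun z hz => hz.2)
    obtain ⟨z, rfl⟩ : x ∈ Set.range j := by show x ∈ Set.range hV.fromSpec; rw [hV.range_fromSpec]; exact hxV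
    rw [hD] at hbs
    by_cases hz : b ∈ z.asIdeal
    · refine Or.inr ⟨j '' ↑(PrimeSpectrum.basicOpen (1 - b)), hjo _ (PrimeSpectrum.basicOpen _).2,
        ⟨z, fun h => z.isPrime.ne_top ((Ideal.eq_top_iff_one _).mpr (by
          have := z.asIdeal.add_mem hz h; rwa [add_sub_cancel] at this)), rfl⟩, ?_⟩
      rintro _ ⟨⟨w, hw, rfl⟩, hwT⟩
      refine (hcov hwT).resolve_left fun hwu => hw ?_
      refine (w.isPrime.mem_or_mem (show b * (1 - b) ∈ w.asIdeal by
        rw [mul_sub, mul_one, hb.eq, sub_self]; exact zero_mem _)).resolve_left ?_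
      exact (hbs.ge (show w ∈ j ⁻¹' (u ∩ T) from ⟨hwu, hwT⟩)).1
    · refine Or.inl ⟨j '' ↑(PrimeSpectrum.basicOpen b), hjo _ (PrimeSpectrum.basicOpen _).2,
        ⟨z, hz, rfl⟩, ?_⟩
      rintro _ ⟨⟨w, hw, rfl⟩, hwT⟩
      exact (hbs.le ⟨hw, hwT⟩).1
  have h := isPreconnected_univ (α := X) (G u) (G v) (hGo u) (hGo v) hGcov
    ⟨yu, trivial, u ∩ T, hu.inter hTo, ⟨hyu.2, hyu.1⟩, fun y hy => hy.1.1⟩
    ⟨yv, trivial, v ∩ T, hv.inter hTo, ⟨hyv.2, hyv.1⟩, fun y hy => hy.1.1⟩
  rw [Set.univ_inter, hdisj] at h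
  exact Set.not_nonempty_empty h

end Groth.Agent.RedSpecial
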