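import Groth.Agent.FlatMorLib.SpecStalk
import Mathlib.AlgebraicGeometry.Morphisms.Proper
import Mathlib.AlgebraicGeometry.Morphisms.FiniteType
import Mathlib.AlgebraicGeometry.Noetherian
import Mathlib.RingTheory.DiscreteValuationRing.Basic
import Mathlib.RingTheory.Nakayama
import Mathlib.RingTheory.Flat.TorsionFree
import Mathlib.RingTheory.LocalProperties.Reduced
import Mathlib.RingTheory.TensorProduct.Quotient

/-!
# Reducedness of flat schemes over a DVR with reduced special fibre
-/

set_option autoImplicit false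
universe u

open CategoryTheory CategoryTheory.Limits AlgebraicGeometry TensorProduct

namespace Groth.Agent.RedSpecial

theorem isReduced_localization {R B : Type u} [CommRing R] [IsDomain R] [IsDiscreteValuationRing R]
    [CommRing B] [Algebra R B] [IsNoetherianRing B] [Module.Flat R B]
    (h : _root_.IsReduced ((IsLocalRing.maximalIdeal R).Fiber B)) (q : Ideal B) [q.IsPrime]
    (hq : (IsLocalRing.maximalIdeal R).map (algebraMap R B) ≤ q) :
    _root_.IsReduced (Localization.AtPrime q) := by
  have : Module.IsTorsionFree R B := by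
    rw [Submodule.isTorsionFree_iff_torsion_eq_bot]; exact Module.Flat.torsion_eq_bot
  obtain ⟨π, hπ⟩ := IsDiscreteValuationRing.exists_irreducible R
  have hπ0 : π ≠ 0 := hπ.ne_zero
  let m := IsLocalRing.maximalIdeal R
  have hspan : m.map (algebraMap R B) = Ideal.span {algebraMap R B π} := by
    rw [show m = Ideal.span {π} from hπ.maximalIdeal_eq, Ideal.map_span, Set.image_singleton]
  have hred : _root_.IsReduced (B ⧸ m.map (algebraMap R B)) := by
    let ek : (R ⧸ m) ≃ₐ[R] m.ResidueField :=
      AlgEquiv.ofBijective (IsScalarTower.toAlgHom R (R ⧸ m) m.ResidueField)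
        m.bijective_algebraMap_quotient_residueField
    let e : (B ⧸ m.map (algebraMap R B)) ≃+* m.Fiber B :=
      (Algebra.TensorProduct.quotIdealMapEquivTensorQuot B m).toRingEquiv.trans
        ((Algebra.TensorProduct.comm R B (R ⧸ m)).trans
          (Algebra.TensorProduct.congr ek (AlgEquiv.refl : B ≃ₐ[R] B))).toRingEquiv
    exact isReduced_of_injective e e.injective
  have key : nilradical B ≤ Ideal.span {algebraMap R B π} * nilradical B := by
    intro b hb
    have hb' : b ∈ Ideal.span {algebraMap R B π} := by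
      rw [← hspan, ← Ideal.Quotient.eq_zero_iff_mem]
      exact ((mem_nilradical.mp hb).map _).eq_zero
    obtain ⟨c, rfl⟩ := Ideal.mem_span_singleton'.mp hb'
    rw [mul_comm c]
    refine Ideal.mul_mem_mul (Ideal.mem_span_singleton_self _) ?_
    obtain ⟨N, hN⟩ := mem_nilradical.mp hb
    refine mem_nilradical.mpr ⟨N, ?_⟩
    rw [mul_pow, mul_comm, ← map_pow, ← Algebra.smul_def] at hN
    exact (smul_eq_zero_iff_right (pow_ne_zero N hπ0)).mp hN
  obtain ⟨r, hr, hr0⟩ := Submodule.exists_mem_and_smul_eq_self_of_fg_of_le_smul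
    (Ideal.span {algebraMap R B π}) (nilradical B) (IsNoetherian.noetherian _) key
  refine ⟨fun x hx => ?_⟩
  obtain ⟨a, s, rfl⟩ := IsLocalization.exists_mk'_eq q.primeCompl x
  obtain ⟨N, hN⟩ := hx
  rw [← IsLocalization.mk'_pow, IsLocalization.mk'_eq_zero_iff] at hN
  obtain ⟨t, ht⟩ := hN
  have hn : (t : B) * a ∈ nilradical B := mem_nilradical.mpr ⟨N + 1, by
    rw [mul_pow, pow_succ (t : B), pow_succ a,
      show (t : B) ^ N * t * (a ^ N * a) = (t : B) ^ N * a * (t * a ^ N) by ring, ht, mul_zero]⟩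
  rw [IsLocalization.mk'_eq_zero_iff]
  have h1 : (1 - r) * ((t : B) * a) = 0 := by
    have := hr0 _ hn
    rw [smul_eq_mul] at this
    rw [sub_mul, one_mul, this, sub_self]
  have h2 : 1 - r ∈ q.primeCompl := fun hm => by
    refine (Ideal.IsPrime.ne_top ‹q.IsPrime›) ((Ideal.eq_top_iff_one q).mpr ?_)
    have := q.add_mem hm (hq (hspan.symm ▸ hr))
    rwa [sub_add_cancel] at this
  exact ⟨⟨_, mul_mem h2 t.2⟩, by rw [← h1]; exact mul_assoc _ _ _⟩

theorem isReduced_of_flat {R : Type u} [CommRing R] [IsDomain R] [IsDiscreteValuationRing R]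
    {X : Scheme.{u}} (f : X ⟶ Spec (CommRingCat.of R)) [IsProper f] [Flat f]
    (hred : IsReduced (f.fiber (IsLocalRing.closedPoint R))) : IsReduced X := by
  have hX : IsLocallyNoetherian X := LocallyOfFiniteType.isLocallyNoetherian f
  have key : ∀ y : X, f y = IsLocalRing.closedPoint R → _root_.IsReduced (X.presheaf.stalk y) := by
    intro y hy
    obtain ⟨_, ⟨V, hV, rfl⟩, hyV, -⟩ :=
      X.isBasis_affineOpens.exists_subset_of_mem_open (Set.mem_univ y) isOpen_univ
    obtain ⟨φ, hφ⟩ := Spec.map_surjective (hV.fromSpec ≫ f)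
    algebraize [φ.hom]
    have hN : IsNoetherianRing Γ(X, V) := IsLocallyNoetherian.component_noetherian ⟨V, hV⟩
    have : Module.Flat R Γ(X, V) := by
      have h : Flat (Spec.map φ) := hφ.symm ▸ (inferInstance : Flat (hV.fromSpec ≫ f))
      exact (HasRingHomProperty.Spec_iff (P := @Flat)).mp h
    let g : Spec Γ(X, V) ⟶ Spec (CommRingCat.of R) :=
      Spec.map (CommRingCat.ofHom (algebraMap R Γ(X, V)))
    have hg : g = hV.fromSpec ≫ f := hφ
    let γ : PrimeSpectrum R := IsLocalRing.closedPoint R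
    let F : g.fiber γ ⟶ f.fiber γ :=
      pullback.map g ((Spec (CommRingCat.of R)).fromSpecResidueField γ) f
        ((Spec (CommRingCat.of R)).fromSpecResidueField γ) hV.fromSpec (𝟙 _) (𝟙 _)
        (by rw [Category.comp_id, hg]) (by rw [Category.comp_id, Category.id_comp])
    have : IsOpenImmersion F := inferInstanceAs (IsOpenImmersion (pullback.map ..))
    have : IsReduced (g.fiber γ) := isReduced_of_isOpenImmersion F
    let e : g.fiber γ ≅ Spec (CommRingCat.of (γ.asIdeal.Fiber Γ(X, V))) :=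
      Arrow.leftFunc.mapIso (Spec.fiberToSpecResidueFieldIso R Γ(X, V) γ)
    have hFr : IsReduced (Spec (CommRingCat.of (γ.asIdeal.Fiber Γ(X, V)))) :=
      isReduced_of_isOpenImmersion e.inv
    have hfib : _root_.IsReduced ((IsLocalRing.maximalIdeal R).Fiber Γ(X, V)) :=
      (affine_isReduced_iff _).mp hFr
    let q := hV.primeIdealOf ⟨y, hyV⟩
    have hq : (IsLocalRing.maximalIdeal R).map (algebraMap R Γ(X, V)) ≤ q.asIdeal := by
      rw [Ideal.map_le_iff_le_comap]
      have h1 : g q = γ := by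
        rw [hg, Scheme.Hom.comp_apply, hV.fromSpec_primeIdealOf]
        exact hy
      exact (congrArg PrimeSpectrum.asIdeal h1).ge
    have := isReduced_localization hfib q.asIdeal hq
    algebraize [(X.presheaf.germ V y hyV).hom]
    have := hV.isLocalization_stalk ⟨y, hyV⟩
    let e' : X.presheaf.stalk y ≃ₐ[Γ(X, V)] Localization.AtPrime q.asIdeal :=
      IsLocalization.algEquiv q.asIdeal.primeCompl _ _
    exact isReduced_of_injective e'.toRingHom e'.injective
  have (x : X) : _root_.IsReduced (X.presheaf.stalk x) := by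
    obtain ⟨y, hxy, hy⟩ : ∃ y, x ⤳ y ∧ f y = IsLocalRing.closedPoint R := by
      have hcl : IsClosed (f '' closure {x}) := f.isClosedMap _ isClosed_closure
      obtain ⟨y, hy, hy'⟩ := (IsLocalRing.specializes_closedPoint (f x)).mem_closed hcl
        ⟨x, subset_closure rfl, rfl⟩
      exact ⟨y, specializes_iff_mem_closure.mpr hy, hy'⟩
    have := key y hy
    obtain ⟨_, ⟨V, hV, rfl⟩, hyV, -⟩ :=
      X.isBasis_affineOpens.exists_subset_of_mem_open (Set.mem_univ y) isOpen_univ
    have hxV : x ∈ V := hxy.mem_open V.2 hyV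
    algebraize [(X.presheaf.germ V x hxV).hom]
    have := hV.isLocalization_stalk ⟨x, hxV⟩
    algebraize [(X.presheaf.germ V y hyV).hom]
    have := hV.isLocalization_stalk ⟨y, hyV⟩
    let qx := (hV.primeIdealOf ⟨x, hxV⟩).asIdeal
    let qy := (hV.primeIdealOf ⟨y, hyV⟩).asIdeal
    have hle : qx ≤ qy := by
      refine (PrimeSpectrum.le_iff_specializes (hV.primeIdealOf ⟨x, hxV⟩) (hV.primeIdealOf ⟨y, hyV⟩)).mpr ?_
      refine hV.fromSpec.isOpenEmbedding.isInducing.specializes_iff.mp ?_
      rw [hV.fromSpec_primeIdealOf, hV.fromSpec_primeIdealOf]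
      exact hxy
    refine ⟨fun z hz => ?_⟩
    obtain ⟨a, s, rfl⟩ := IsLocalization.exists_mk'_eq qx.primeCompl z
    obtain ⟨N, hN⟩ := hz
    rw [← IsLocalization.mk'_pow, IsLocalization.mk'_eq_zero_iff] at hN
    obtain ⟨t, ht⟩ := hN
    have hn : algebraMap Γ(X, V) (X.presheaf.stalk y) (t * a) = 0 := by
      refine IsReduced.eq_zero _ ⟨N + 1, ?_⟩
      rw [← map_pow, mul_pow, pow_succ (t : Γ(X, V)), pow_succ a,
        show (t : Γ(X, V)) ^ N * t * (a ^ N * a) = (t : Γ(X, V)) ^ N * a * (t * a ^ N) by ring, ht,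
        mul_zero, map_zero]
    rw [IsLocalization.map_eq_zero_iff qy.primeCompl] at hn
    obtain ⟨u, hu⟩ := hn
    rw [IsLocalization.mk'_eq_zero_iff]
    exact ⟨⟨u * t, mul_mem (fun hm => u.2 (hle hm)) t.2⟩, by rw [← hu]; exact mul_assoc _ _ _⟩
  exact isReduced_of_isReduced_stalk X

end Groth.Agent.RedSpecial
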